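import Mathlib
import Groth.Prelude.Def_W4c1liftfrobW2

/-!
# Basic facts about `W₂(k)` for a perfect field `k`, flatness over it, and liftings
-/

universe u v

open TensorProduct

namespace GrothLib.W2Lift

open FrobAlg

variable {p : ℕ} [Fact p.Prime]

section ring

variable {k : Type u} [CommRing k]

theorem res_surjective : Function.Surjective (res p k) := by
  intro a
  refine ⟨WittVector.truncate 2 (WittVector.mk p fun _ => a), ?_⟩
  rw [res_truncate]
  rfl

variable [CharP k p]

theorem res_natCast_p : res p k (p : W2 p k) = 0 := by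
  rw [map_natCast, CharP.cast_eq_zero]

theorem p_mul_p : (p : W2 p k) * (p : W2 p k) = 0 := by
  have h : WittVector.truncate 2 ((p : WittVector p k) ^ 2) = 0 := by
    rw [← RingHom.mem_ker, WittVector.mem_ker_truncate]
    intro i hi
    exact WittVector.coeff_p_pow_eq_zero p k (by omega)
  rw [map_pow, map_natCast, sq] at h
  exact h

variable [PerfectRing k p]

theorem exists_eq_mul_p {x : W2 p k} (hx : res p k x = 0) : ∃ y, x = y * (p : W2 p k) := by
  obtain ⟨X, rfl⟩ := WittVector.truncate_surjective p 2 k x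
  rw [res_truncate] at hx
  obtain ⟨Y, hY⟩ := (WittVector.frobenius_bijective p k).surjective (X.shift 1)
  refine ⟨WittVector.truncate 2 Y, ?_⟩
  have h1 : X = WittVector.verschiebung (X.shift 1) := by
    have := WittVector.eq_iterate_verschiebung (x := X) (n := 1) (fun i hi => by
      obtain rfl : i = 0 := by omega
      exact hx)
    simpa using this
  conv_lhs => rw [h1, ← hY, WittVector.verschiebung_frobenius]
  rw [map_mul, map_natCast]

theorem ker_res : RingHom.ker (res p k) = Ideal.span {(p : W2 p k)} := by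
  apply le_antisymm
  · intro x hx
    obtain ⟨y, rfl⟩ := exists_eq_mul_p hx
    exact Ideal.mem_span_singleton.2 (dvd_mul_left _ _)
  · rw [Ideal.span_le, Set.singleton_subset_iff]
    exact res_natCast_p

end ring

section field

variable {k : Type u} [Field k] [CharP k p] [PerfectRing k p]

theorem isUnit_or_exists_eq_mul_p (x : W2 p k) : IsUnit x ∨ ∃ y, x = y * (p : W2 p k) := by
  by_cases hx : res p k x = 0
  · exact Or.inr (exists_eq_mul_p hx)
  · left
    obtain ⟨y, hy⟩ := res_surjective (p := p) (res p k x)⁻¹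
    have h1 : res p k (x * y - 1) = 0 := by
      rw [map_sub, map_mul, hy, mul_inv_cancel₀ hx, map_one, sub_self]
    obtain ⟨z, hz⟩ := exists_eq_mul_p h1
    have h2 : IsNilpotent (x * y - 1) := by
      refine ⟨2, ?_⟩
      rw [hz, mul_pow, sq (p : W2 p k), p_mul_p, mul_zero]
    have h3 : IsUnit (x * y) := by
      have := h2.isUnit_add_one
      simpa using this
    exact isUnit_of_mul_isUnit_left h3

theorem flat_iff (M : Type v) [AddCommGroup M] [Module (W2 p k) M] :
    Module.Flat (W2 p k) M ↔
      ∀ m : M, (p : W2 p k) • m = 0 → ∃ m' : M, m = (p : W2 p k) • m' := by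
  constructor
  · intro _ m hm
    have hsum : ∑ _i : Fin 1, (p : W2 p k) • m = 0 := by simpa using hm
    obtain ⟨l, a, y, hx, ha⟩ := Module.Flat.isTrivialRelation_of_sum_smul_eq_zero hsum
    have h1 : ∀ j, ∃ c, a 0 j = c * (p : W2 p k) := fun j => by
      rcases isUnit_or_exists_eq_mul_p (a 0 j) with hu | hc
      · exfalso
        have h0 : (p : W2 p k) * a 0 j = 0 := by simpa using ha j
        have hp0 : (p : W2 p k) = 0 := hu.mul_left_eq_zero.1 h0
        have hone : WittVector.truncate 2 (p : WittVector p k) = 0 := by rw [map_natCast, hp0]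
        have := (WittVector.mem_ker_truncate 2 _).1 (RingHom.mem_ker.2 hone) 1 (by omega)
        rw [WittVector.coeff_p, if_pos rfl] at this
        exact one_ne_zero this
      · exact hc
    choose c hc using h1
    refine ⟨∑ j, c j • y j, ?_⟩
    rw [Finset.smul_sum]
    refine (hx 0).trans ?_
    refine Finset.sum_congr rfl fun j _ => ?_
    rw [hc j, smul_smul, mul_comm]
  · intro h
    rw [Module.Flat.iff_rTensor_injective']
    intro I
    rw [injective_iff_map_eq_zero]
    intro z hz
    by_cases hI : I = ⊤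
    · subst hI
      exact (LinearEquiv.rTensor M (Submodule.topEquiv : (⊤ : Ideal (W2 p k)) ≃ₗ[W2 p k] W2 p k)).injective
        (by rw [map_zero]; exact hz)
    by_cases hI0 : I = ⊥
    · subst hI0
      induction z using TensorProduct.induction_on with
      | zero => rfl
      | tmul a m => rw [Subsingleton.elim a 0, zero_tmul]
      | add a b _ _ =>
        have : ∀ w : (⊥ : Ideal (W2 p k)) ⊗[W2 p k] M, w = 0 := fun w => by
          induction w using TensorProduct.induction_on with
          | zero => rfl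
          | tmul c m => rw [Subsingleton.elim c 0, zero_tmul]
          | add c d hc hd => rw [hc, hd, add_zero]
        exact this _
    have hnu : ∀ x ∈ I, ∃ y, x = y * (p : W2 p k) := fun x hx =>
      (isUnit_or_exists_eq_mul_p x).resolve_left fun hu => hI (Ideal.eq_top_of_isUnit_mem I hx hu)
    have hpI : (p : W2 p k) ∈ I := by
      obtain ⟨x, hx, hx0⟩ := Submodule.exists_mem_ne_zero_of_ne_bot hI0
      obtain ⟨y, rfl⟩ := hnu x hx
      rcases isUnit_or_exists_eq_mul_p y with hu | ⟨y', rfl⟩
      · exact (Ideal.unit_mul_mem_iff_mem I hu).1 hx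
      · exact absurd (by rw [mul_assoc, p_mul_p, mul_zero]) hx0
    have hgen : ∀ w : I ⊗[W2 p k] M, ∃ m : M, w = (⟨_, hpI⟩ : I) ⊗ₜ m := fun w => by
      induction w using TensorProduct.induction_on with
      | zero => exact ⟨0, (tmul_zero _ _).symm⟩
      | tmul a m =>
        obtain ⟨y, hy⟩ := hnu a a.2
        refine ⟨y • m, ?_⟩
        rw [← smul_tmul]
        congr 1
        exact Subtype.ext hy
      | add a b ha hb =>
        obtain ⟨m, rfl⟩ := ha
        obtain ⟨n, rfl⟩ := hb
        exact ⟨m + n, (tmul_add _ _ _).symm⟩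
    obtain ⟨m, rfl⟩ := hgen z
    have hm : (p : W2 p k) • m = 0 := by
      have := congrArg (TensorProduct.lid (W2 p k) M) hz
      simpa using this
    obtain ⟨m', rfl⟩ := h m hm
    rw [← smul_tmul]
    have : (p : W2 p k) • (⟨_, hpI⟩ : I) = 0 := Subtype.ext p_mul_p
    rw [this, zero_tmul]

variable {B : Type v} [CommRing B]

theorem flat_ringHom_iff (ι : W2 p k →+* B) :
    ι.Flat ↔ ∀ b : B, (p : B) * b = 0 → ∃ b' : B, b = (p : B) * b' := by
  let _ : Algebra (W2 p k) B := ι.toAlgebra
  rw [show ι = algebraMap (W2 p k) B from rfl, RingHom.flat_algebraMap_iff, flat_iff]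
  simp only [Algebra.smul_def, map_natCast]

theorem map_ker_res (ι : W2 p k →+* B) :
    Ideal.map ι (RingHom.ker (res p k)) = Ideal.span {(p : B)} := by
  rw [ker_res, Ideal.map_span, Set.image_singleton, map_natCast]

theorem p_mul_p_of_hom (ι : W2 p k →+* B) : (p : B) * (p : B) = 0 := by
  have h := congrArg ι (p_mul_p (k := k) (p := p))
  rwa [map_mul, map_natCast, map_zero] at h

variable {A : Type v} [CommRing A] [Algebra k A] {ι : W2 p k →+* B} {π : B →+* A}

theorem IsLift.map_eq_zero_iff (hB : FrobAlg.IsLift p k A B ι π) (b : B) :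
    π b = 0 ↔ ∃ c, b = (p : B) * c := by
  rw [← RingHom.mem_ker, hB.ker_eq, map_ker_res, Ideal.mem_span_singleton]
  rfl

theorem IsLift.p_mul_eq_zero_iff (hB : FrobAlg.IsLift p k A B ι π) (b : B) :
    (p : B) * b = 0 ↔ π b = 0 := by
  rw [IsLift.map_eq_zero_iff hB]
  constructor
  · exact (flat_ringHom_iff ι).1 hB.flat b
  · rintro ⟨c, rfl⟩
    rw [← mul_assoc, p_mul_p_of_hom ι, zero_mul]

theorem IsLift.map_p (hB : FrobAlg.IsLift p k A B ι π) : π (p : B) = 0 :=
  (IsLift.map_eq_zero_iff hB _).2 ⟨1, (mul_one _).symm⟩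

theorem IsLift.p_mul_inj (hB : FrobAlg.IsLift p k A B ι π) (b c : B) :
    (p : B) * b = (p : B) * c ↔ π b = π c := by
  rw [← sub_eq_zero, ← mul_sub, IsLift.p_mul_eq_zero_iff hB, map_sub, sub_eq_zero]

end field

end GrothLib.W2Lift

namespace GrothLib.W2Lift

open FrobAlg

theorem res_sigma {p : ℕ} [Fact p.Prime] {k : Type u} [CommRing k] [CharP k p] (x : W2 p k) :
    res p k (sigma p k x) = res p k x ^ p := by
  rw [res_apply, res_apply, WittGrp.coeff_frob]

end GrothLib.W2Lift
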