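import Groth.Agent.Lib.W2Lift.Basic

/-!
# Constructing liftings over `W₂(k)` from descent data
-/

universe u v

open TensorProduct

namespace GrothLib.W2Lift

open FrobAlg

variable {p : ℕ} [Fact p.Prime] {k : Type u} [Field k] [CharP k p] [PerfectRing k p]

/-- A lifting from a presentation `q : P → A` and a map `D : ker q → A` which is `P`-semilinear
and sends `p * h` to `q h`. -/
theorem liftable_of_data {A : Type v} [CommRing A] [Algebra k A] {P : Type v} [CommRing P]
    (q : P →+* A) (hq : Function.Surjective q) (ιP : W2 p k →+* P)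
    (hcomm : q.comp ιP = (algebraMap k A).comp (res p k))
    (D : ↥(RingHom.ker q) →+ A) (hmul : ∀ (a : P) (g : ↥(RingHom.ker q)), D (a • g) = q a * D g)
    (hp : ∀ (h : P) (hh : (p : P) * h ∈ RingHom.ker q), D ⟨(p : P) * h, hh⟩ = q h) :
    FrobAlg.IsW2Liftable p k A := by
  let J : Ideal P :=
    { carrier := {x | ∃ h : x ∈ RingHom.ker q, D ⟨x, h⟩ = 0}
      zero_mem' := ⟨zero_mem _, D.map_zero⟩
      add_mem' := by
        rintro x y ⟨hx, hx0⟩ ⟨hy, hy0⟩
        refine ⟨add_mem hx hy, ?_⟩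
        rw [show (⟨x + y, add_mem hx hy⟩ : RingHom.ker q) = ⟨x, hx⟩ + ⟨y, hy⟩ from rfl, map_add,
          hx0, hy0, add_zero]
      smul_mem' := by
        rintro a x ⟨hx, hx0⟩
        refine ⟨Ideal.mul_mem_left _ a hx, ?_⟩
        rw [show (⟨a • x, _⟩ : RingHom.ker q) = a • ⟨x, hx⟩ from rfl, hmul, hx0, mul_zero] }
  let π : P ⧸ J →+* A := Ideal.Quotient.lift J q fun x hx => hx.1
  have hpk : ∀ h : P, (p : P) * h ∈ RingHom.ker q := by
    intro h
    have h1 : q (p : P) = 0 := by
      have := RingHom.congr_fun hcomm (p : W2 p k)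
      rw [RingHom.comp_apply, RingHom.comp_apply, map_natCast, res_natCast_p, map_zero] at this
      exact this
    rw [RingHom.mem_ker, map_mul, h1, zero_mul]
  have hker : ∀ x : P, q x = 0 → ∃ h : P, x - (p : P) * h ∈ J := by
    intro x hx
    obtain ⟨h, hh⟩ := hq (D ⟨x, hx⟩)
    refine ⟨h, sub_mem (RingHom.mem_ker.2 hx) (hpk h), ?_⟩
    rw [show (⟨x - (p : P) * h, _⟩ : RingHom.ker q) = ⟨x, hx⟩ - ⟨(p : P) * h, hpk h⟩ from rfl,
      map_sub, hp, hh, sub_self]
  refine ⟨P ⧸ J, inferInstance, (Ideal.Quotient.mk J).comp ιP, π, ⟨?_, ?_, ?_, ?_⟩⟩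
  · rw [flat_ringHom_iff]
    intro b hb
    obtain ⟨x, rfl⟩ := Ideal.Quotient.mk_surjective b
    rw [← map_natCast (Ideal.Quotient.mk J), ← map_mul, Ideal.Quotient.eq_zero_iff_mem] at hb
    obtain ⟨hh, h0⟩ := hb
    rw [hp] at h0
    obtain ⟨h, hh'⟩ := hker x h0
    refine ⟨Ideal.Quotient.mk J h, ?_⟩
    rw [← map_natCast (Ideal.Quotient.mk J), ← map_mul, Ideal.Quotient.eq]
    exact hh'
  · intro a
    obtain ⟨x, hx⟩ := hq a
    exact ⟨Ideal.Quotient.mk J x, hx⟩
  · rw [map_ker_res]
    ext b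
    obtain ⟨x, rfl⟩ := Ideal.Quotient.mk_surjective b
    rw [RingHom.mem_ker, Ideal.mem_span_singleton]
    constructor
    · intro h
      obtain ⟨h', hh'⟩ := hker x h
      refine ⟨Ideal.Quotient.mk J h', ?_⟩
      rw [← map_natCast (Ideal.Quotient.mk J), ← map_mul, Ideal.Quotient.eq]
      exact hh'
    · rintro ⟨c, hc⟩
      obtain ⟨y, rfl⟩ := Ideal.Quotient.mk_surjective c
      rw [hc, map_mul, ← map_natCast (Ideal.Quotient.mk J)]
      show q (p : P) * q y = 0
      rw [← map_mul]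
      exact hpk y
  · ext w
    exact RingHom.congr_fun hcomm w

variable {A : Type v} [CommRing A] [Algebra k A] {B : Type v} [CommRing B] [Algebra k B]
  [Algebra A B] [IsScalarTower k A B]

/-- The data `δ : ker q → B` obtained from a lifting of `B` and a lift `θ` of `P → A → B`. -/
theorem exists_delta {B' : Type v} [CommRing B'] {ιB : W2 p k →+* B'} {πB : B' →+* B}
    (hB : FrobAlg.IsLift p k B B' ιB πB) {P : Type v} [CommRing P] (q : P →+* A) (θ : P →+* B')
    (hθ : ∀ x, πB (θ x) = algebraMap A B (q x)) :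
    ∃ δ : ↥(RingHom.ker q) →+ B,
      (∀ (a : P) (g : ↥(RingHom.ker q)), δ (a • g) = q a • δ g) ∧
      ∀ (h : P) (hh : (p : P) * h ∈ RingHom.ker q), δ ⟨(p : P) * h, hh⟩ = algebraMap A B (q h) := by
  have hsub : ∀ g : ↥(RingHom.ker q), ∃ c : B', θ (g : P) = (p : B') * c := fun g => by
    rw [← IsLift.map_eq_zero_iff hB, hθ, RingHom.mem_ker.1 g.2, map_zero]
  choose c hc using hsub
  have key : ∀ (g : ↥(RingHom.ker q)) (c' : B'), θ (g : P) = (p : B') * c' → πB (c g) = πB c' :=
    fun g c' h => (IsLift.p_mul_inj hB _ _).1 ((hc g).symm.trans h)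
  refine ⟨AddMonoidHom.mk' (fun g => πB (c g)) fun g g' => ?_, fun a g => ?_, fun h hh => ?_⟩
  · rw [key (g + g') (c g + c g') (by rw [Submodule.coe_add, map_add, hc, hc, mul_add]), map_add]
  · show πB (c (a • g)) = q a • πB (c g)
    rw [key (a • g) (θ a * c g) (by
      rw [Submodule.coe_smul, smul_eq_mul, map_mul, hc]; ring), map_mul, hθ, Algebra.smul_def]
  · show πB (c _) = _
    rw [key _ (θ h) (by rw [map_mul, map_natCast]), hθ]

theorem liftable_of_retraction (r : B →ₗ[A] A) (hr : ∀ a, r (algebraMap A B a) = a)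
    {B' : Type v} [CommRing B'] {ιB : W2 p k →+* B'} {πB : B' →+* B}
    (hB : FrobAlg.IsLift p k B B' ιB πB) {P : Type v} [CommRing P] (q : P →+* A)
    (hq : Function.Surjective q) (ιP : W2 p k →+* P)
    (hcomm : q.comp ιP = (algebraMap k A).comp (res p k)) (θ : P →+* B')
    (hθ : ∀ x, πB (θ x) = algebraMap A B (q x)) : FrobAlg.IsW2Liftable p k A := by
  obtain ⟨δ, hδ1, hδ2⟩ := exists_delta hB q θ hθ
  refine liftable_of_data q hq ιP hcomm (r.toAddMonoidHom.comp δ) (fun a g => ?_) fun h hh => ?_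
  · show r (δ (a • g)) = q a * r (δ g)
    rw [hδ1, map_smul, smul_eq_mul]
  · show r (δ _) = _
    rw [hδ2, hr]

theorem isNoetherianRing_W2 : IsNoetherianRing (W2 p k) := by
  rw [isNoetherianRing_iff_ideal_fg]
  intro I
  by_cases hI : I = ⊤
  · exact ⟨{1}, by simp [hI]⟩
  by_cases hI0 : I = ⊥
  · exact ⟨∅, by simp [hI0]⟩
  refine ⟨{(p : W2 p k)}, ?_⟩
  rw [Finset.coe_singleton]
  have hnu : ∀ x ∈ I, ∃ y, x = y * (p : W2 p k) := fun x hx =>
    (isUnit_or_exists_eq_mul_p x).resolve_left fun hu => hI (Ideal.eq_top_of_isUnit_mem I hx hu)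
  apply le_antisymm
  · obtain ⟨x, hx, hx0⟩ := Submodule.exists_mem_ne_zero_of_ne_bot hI0
    obtain ⟨y, rfl⟩ := hnu x hx
    rw [Submodule.span_le, Set.singleton_subset_iff]
    rcases isUnit_or_exists_eq_mul_p y with hu | ⟨y', rfl⟩
    · exact (Ideal.unit_mul_mem_iff_mem I hu).1 hx
    · exact absurd (by rw [mul_assoc, p_mul_p, mul_zero]) hx0
  · intro x hx
    obtain ⟨y, rfl⟩ := hnu x hx
    exact Ideal.mem_span_singleton.2 (dvd_mul_left _ _)

/-- Descent of solvability of a linear system along a faithfully flat algebra. -/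
theorem exists_solution_of_faithfullyFlat {A B : Type v} [CommRing A] [CommRing B] [Algebra A B]
    [Module.FaithfullyFlat A B] {α β : Type*} [Fintype α] [Fintype β] [DecidableEq β]
    (M : β → α → A) (c : β → A) (f : α → B) (hf : ∀ j, ∑ i, M j i • f i = c j • (1 : B)) :
    ∃ g : α → A, ∀ j, ∑ i, M j i * g i = c j := by
  classical
  let T : (α → A) →ₗ[A] (β → A) :=
    LinearMap.pi fun j => ∑ i, M j i • LinearMap.proj i
  suffices c ∈ LinearMap.range T by
    obtain ⟨g, hg⟩ := this
    refine ⟨g, fun j => ?_⟩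
    have := congrFun hg j
    simpa [T] using this
  rw [← Submodule.Quotient.mk_eq_zero]
  set π := (LinearMap.range T).mkQ with hπ
  change π c = 0
  apply Module.FaithfullyFlat.tensorProduct_mk_injective (A := A) (B := B) _
  show (1 : B) ⊗ₜ[A] π c = (1 : B) ⊗ₜ[A] 0
  rw [tmul_zero]
  have hT : ∀ i, π (fun j => M j i) = 0 := fun i => by
    rw [hπ, Submodule.mkQ_apply, Submodule.Quotient.mk_eq_zero]
    refine ⟨Pi.single i 1, ?_⟩
    funext j
    simp [T, Pi.single_apply]
  have hc : c = ∑ j, c j • (Pi.single j 1 : β → A) := by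
    funext j'
    simp [Pi.single_apply]
  have hM : ∀ i, (fun j => M j i) = ∑ j, M j i • (Pi.single j 1 : β → A) := fun i => by
    funext j'
    simp [Pi.single_apply]
  calc (1 : B) ⊗ₜ[A] π c = ∑ j, (c j • (1 : B)) ⊗ₜ[A] π (Pi.single j 1) := by
        conv_lhs => rw [hc, map_sum, tmul_sum]
        simp only [map_smul, tmul_smul, smul_tmul']
    _ = ∑ i, f i ⊗ₜ[A] π (fun j => M j i) := by
        simp only [← hf, sum_tmul]
        rw [Finset.sum_comm]
        refine Finset.sum_congr rfl fun i _ => ?_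
        conv_rhs => rw [hM i, map_sum, tmul_sum]
        simp only [map_smul, tmul_smul, smul_tmul']
    _ = 0 := by simp [hT]

theorem liftable_of_faithfullyFlat [Module.FaithfullyFlat A B]
    {B' : Type v} [CommRing B'] {ιB : W2 p k →+* B'} {πB : B' →+* B}
    (hB : FrobAlg.IsLift p k B B' ιB πB) {P : Type v} [CommRing P] [IsNoetherianRing P]
    (q : P →+* A) (hq : Function.Surjective q) (ιP : W2 p k →+* P)
    (hcomm : q.comp ιP = (algebraMap k A).comp (res p k)) (θ : P →+* B')
    (hθ : ∀ x, πB (θ x) = algebraMap A B (q x)) : FrobAlg.IsW2Liftable p k A := by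
  classical
  obtain ⟨δ, hδ1, hδ2⟩ := exists_delta hB q θ hθ
  have hpmem : (p : P) * 1 ∈ RingHom.ker q := by
    have := RingHom.congr_fun hcomm (p : W2 p k)
    rw [RingHom.comp_apply, RingHom.comp_apply, map_natCast, res_natCast_p, map_zero] at this
    rw [mul_one, RingHom.mem_ker, this]
  obtain ⟨n, g, hg⟩ := Module.Finite.exists_fin (R := P) (M := ↥(RingHom.ker q))
  let L : (Fin n → P) →ₗ[P] ↥(RingHom.ker q) := Fintype.linearCombination P g
  have hL : Function.Surjective L := by
    rw [← LinearMap.range_eq_top, Fintype.range_linearCombination, hg]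
  obtain ⟨m, rel, hrel⟩ := Module.Finite.exists_fin (R := P) (M := ↥(LinearMap.ker L))
  obtain ⟨v, hv⟩ := hL ⟨(p : P) * 1, hpmem⟩
  have hδL : ∀ a : Fin n → P, δ (L a) = ∑ i, q (a i) • δ (g i) := fun a => by
    simp [L, Fintype.linearCombination_apply, hδ1]
  obtain ⟨f, hf⟩ := exists_solution_of_faithfullyFlat (B := B)
    (fun (j : Fin m ⊕ Unit) i => Sum.elim (fun j => q ((rel j : Fin n → P) i)) (fun _ => q (v i)) j)
    (Sum.elim (fun _ => 0) fun _ => 1) (fun i => δ (g i)) (by
      rintro (j | j)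
      · simp only [Sum.elim_inl, zero_smul]
        rw [← hδL, LinearMap.mem_ker.1 (rel j).2, map_zero]
      · simp only [Sum.elim_inr, one_smul]
        rw [← hδL, hv, hδ2, map_one, map_one])
  have hwd : ∀ a : Fin n → P, L a = 0 → ∑ i, q (a i) * f i = 0 := by
    intro a ha
    have hmem : (⟨a, LinearMap.mem_ker.2 ha⟩ : ↥(LinearMap.ker L)) ∈ Submodule.span P (Set.range rel) := by
      rw [hrel]; trivial
    obtain ⟨b, hb⟩ := (Submodule.mem_span_range_iff_exists_fun P).1 hmem
    have hb' := congrArg Subtype.val hb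
    simp only [Submodule.coe_sum, Submodule.coe_smul] at hb'
    rw [← hb']
    simp only [Finset.sum_apply, Pi.smul_apply, smul_eq_mul, map_sum, map_mul, Finset.sum_mul]
    rw [Finset.sum_comm]
    refine Finset.sum_eq_zero fun j _ => ?_
    have := hf (Sum.inl j)
    simp only [Sum.elim_inl] at this
    simp only [mul_assoc]
    rw [← Finset.mul_sum, this, mul_zero]
  choose a ha using hL
  let D₀ : ↥(RingHom.ker q) → A := fun x => ∑ i, q (a x i) * f i
  have key : ∀ x b, L b = x → D₀ x = ∑ i, q (b i) * f i := by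
    intro x b hb
    show ∑ i, q (a x i) * f i = _
    have := hwd (a x - b) (by rw [map_sub, ha, hb, sub_self])
    simp only [Pi.sub_apply, map_sub, sub_mul, Finset.sum_sub_distrib, sub_eq_zero] at this
    exact this
  refine liftable_of_data q hq ιP hcomm (AddMonoidHom.mk' D₀ fun x y => ?_) (fun c x => ?_) fun h hh => ?_
  · rw [key (x + y) (a x + a y) (by rw [map_add, ha, ha])]
    simp only [Pi.add_apply, map_add, add_mul, Finset.sum_add_distrib, D₀]
  · show D₀ (c • x) = q c * D₀ x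
    rw [key (c • x) (c • a x) (by rw [map_smul, ha])]
    simp only [Pi.smul_apply, smul_eq_mul, map_mul, mul_assoc, Finset.mul_sum, D₀]
  · show D₀ _ = _
    rw [key _ (h • v) (by rw [map_smul, hv]; exact Subtype.ext (by simp [mul_comm]))]
    have := hf (Sum.inr ())
    simp only [Sum.elim_inr] at this
    simp only [Pi.smul_apply, smul_eq_mul, map_mul, mul_assoc]
    rw [← Finset.mul_sum, this, mul_one]

end GrothLib.W2Lift
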