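import Groth.Agent.Lib.W2Lift.PolyCrit
import Groth.Agent.Lib.DefLift26.Basic
import Groth.Agent.Lib.W2Lift.Build
import Mathlib.RingTheory.KrullDimension.Zero

/-!
# Frobenius liftability of complete intersections
-/

namespace GrothLib.W2Lift

open FrobAlg MvPolynomial

universe u

variable {p : ℕ} [Fact p.Prime] {k : Type u} [Field k] [CharP k p] [PerfectRing k p] {n m : ℕ}

local notation "R'" => MvPolynomial (Fin n) (W2 p k)

theorem isLocalRing_W2 : IsLocalRing (W2 p k) := by
  haveI : Nontrivial (W2 p k) := (res p k).domain_nontrivial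
  refine IsLocalRing.of_isUnit_or_isUnit_one_sub_self fun x => ?_
  rcases isUnit_or_exists_eq_mul_p x with h | ⟨y, rfl⟩
  · exact Or.inl h
  · refine Or.inr ?_
    have : IsNilpotent (y * (p : W2 p k)) := ⟨2, by rw [sq, mul_mul_mul_comm, p_mul_p, mul_zero]⟩
    exact this.isUnit_one_sub

theorem maximalIdeal_W2 [IsLocalRing (W2 p k)] : IsLocalRing.maximalIdeal (W2 p k) = RingHom.ker (res p k) :=
  (IsLocalRing.eq_maximalIdeal (RingHom.ker_isMaximal_of_surjective (res p k) (res_surjective (p := p) (k := k)))).symm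

theorem isArtinianRing_W2 : IsArtinianRing (W2 p k) := by
  haveI := isNoetherianRing_W2 (p := p) (k := k)
  haveI := isLocalRing_W2 (p := p) (k := k)
  haveI : Ring.KrullDimLE 0 (W2 p k) := Ring.KrullDimLE.mk₀ fun I hI => by
    have hle : RingHom.ker (res p k) ≤ I := fun x hx => by
      refine hI.mem_of_pow_mem 2 ?_
      obtain ⟨y, rfl⟩ := exists_eq_mul_p hx
      rw [sq, mul_mul_mul_comm, p_mul_p, mul_zero]
      exact I.zero_mem
    rw [← (RingHom.ker_isMaximal_of_surjective (res p k) (res_surjective (p := p) (k := k))).eq_of_le hI.ne_top hle]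
    exact RingHom.ker_isMaximal_of_surjective (res p k) (res_surjective (p := p) (k := k))
  exact IsNoetherianRing.isArtinianRing_of_krullDimLE_zero

theorem flat_of_isRegular_map (f' : Fin m → R')
    (hreg : RingTheory.Sequence.IsWeaklyRegular (MvPolynomial (Fin n) k)
      (List.ofFn fun i => MvPolynomial.map (res p k) (f' i))) :
    ((Ideal.Quotient.mk (Ideal.span (Set.range f'))).comp (MvPolynomial.C : W2 p k →+* R')).Flat := by
  haveI := isLocalRing_W2 (p := p) (k := k)
  haveI := isArtinianRing_W2 (p := p) (k := k)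
  set M := (IsLocalRing.maximalIdeal (W2 p k)).map (algebraMap (W2 p k) R')
  have hM : M = RingHom.ker (MvPolynomial.map (res p k)) := by
    rw [MvPolynomial.ker_map, ← maximalIdeal_W2]; rfl
  let e : (R' ⧸ M) ≃+* MvPolynomial (Fin n) k := (Ideal.quotEquivOfEq hM).trans
    (RingHom.quotientKerEquivOfSurjective (MvPolynomial.map_surjective _ res_surjective))
  have he : ∀ x, e (Ideal.Quotient.mk M x) = MvPolynomial.map (res p k) x := fun x => rfl
  have h : RingTheory.Sequence.IsWeaklyRegular (R' ⧸ M) ((List.ofFn f').map (Ideal.Quotient.mk M)) := by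
    refine ((e.toAddEquiv).isWeaklyRegular_congr ?_).2 hreg
    rw [List.map_ofFn, List.forall₂_iff_get]
    refine ⟨by simp, fun i h₁ h₂ x => ?_⟩
    simp [he]
  obtain ⟨-, hflat⟩ := GrothLib.DefLift.regular_of_fibre (C := W2 p k) (List.ofFn f') h
  have hJ : Ideal.ofList (List.ofFn f') = Ideal.span (Set.range f') := by
    rw [Ideal.ofList]
    congr 1
    ext x
    simp
  rw [hJ] at hflat
  exact RingHom.flat_algebraMap_iff.2 hflat

theorem isFLiftable_ci_iff (f : Fin m → MvPolynomial (Fin n) k)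
    (hreg : RingTheory.Sequence.IsRegular (MvPolynomial (Fin n) k) (List.ofFn f)) :
    FrobAlg.IsFLiftable p k (MvPolynomial (Fin n) k ⧸ Ideal.span (Set.range f)) ↔
    ∃ (f' : Fin m → R') (h : Fin n → R'),
      (∀ i, MvPolynomial.map (FrobAlg.res p k) (f' i) = f i) ∧
      ∀ i, FrobAlg.polyFrob p k (Fin n) (f' i) - f' i ^ p
        - (p : R') * ∑ j, MvPolynomial.pderiv j (f' i) ^ p * h j
        ∈ Ideal.span {(p : R')} * Ideal.span (Set.range f') := by
  classical
  set mp := MvPolynomial.map (σ := Fin n) (res p k)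
  have hsurj : Function.Surjective mp := MvPolynomial.map_surjective _ res_surjective
  set I := Ideal.span (Set.range f)
  constructor
  · rintro ⟨B, _, ι, π, Φ, hB⟩
    choose y hy using fun j => hB.surj (Ideal.Quotient.mk I (X j))
    let θ : R' →+* B := MvPolynomial.eval₂Hom ι y
    have hθ : ∀ x, π (θ x) = Ideal.Quotient.mk I (mp x) := by
      intro x
      have : π.comp θ = (Ideal.Quotient.mk I).comp mp := MvPolynomial.ringHom_ext
        (fun w => by simp [θ, mp, show π (ι w) = algebraMap k (MvPolynomial (Fin n) k ⧸ I) (res p k w) from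
          RingHom.congr_fun hB.comm w, -res_apply]; rfl)
        (fun j => by simp [θ, mp, hy])
      exact RingHom.congr_fun this x
    have hθs : Function.Surjective θ := by
      intro b
      obtain ⟨x, hx⟩ : ∃ x, π (θ x) = π b := by
        obtain ⟨q, hq⟩ := Ideal.Quotient.mk_surjective (π b)
        obtain ⟨x, rfl⟩ := hsurj q
        exact ⟨x, by rw [hθ, hq]⟩
      obtain ⟨c, hc⟩ := (IsLift.map_eq_zero_iff hB.toIsLift (b - θ x)).1 (by rw [map_sub, hx, sub_self])
      obtain ⟨z, hz⟩ : ∃ z, π (θ z) = π c := by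
        obtain ⟨q, hq⟩ := Ideal.Quotient.mk_surjective (π c)
        obtain ⟨z, rfl⟩ := hsurj q
        exact ⟨z, by rw [hθ, hq]⟩
      refine ⟨x + (p : R') * z, ?_⟩
      rw [map_add, map_mul, map_natCast, (IsLift.p_mul_inj hB.toIsLift _ _).2 hz, ← hc]
      ring
    have hlift : ∀ i, ∃ g, mp g = f i ∧ θ g = 0 := by
      intro i
      obtain ⟨g, hg⟩ := hsurj (f i)
      obtain ⟨c, hc⟩ := (IsLift.map_eq_zero_iff hB.toIsLift (θ g)).1 (by
        rw [hθ, hg, Ideal.Quotient.eq_zero_iff_mem]; exact Ideal.subset_span ⟨i, rfl⟩)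
      obtain ⟨z, rfl⟩ := hθs c
      refine ⟨g - (p : R') * z, ?_, ?_⟩
      · rw [map_sub, hg, map_mul, map_natCast, CharP.cast_eq_zero, zero_mul, sub_zero]
      · rw [map_sub, map_mul, map_natCast, hc, sub_self]
    choose f' hf' hf0 using hlift
    set J := Ideal.span (Set.range f')
    have hJmap : J.map mp = I := by
      rw [Ideal.map_span, ← Set.range_comp, show mp ∘ f' = f from funext hf']
    have hker : RingHom.ker θ = J := by
      refine le_antisymm (fun x hx => ?_) (Ideal.span_le.2 (Set.range_subset_iff.2 hf0))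
      have key : ∀ x, π (θ x) = 0 → ∃ a ∈ J, ∃ y, x = a + (p : R') * y := fun x hx => by
        rw [hθ, Ideal.Quotient.eq_zero_iff_mem, ← hJmap] at hx
        obtain ⟨a, ha, hae⟩ := (Ideal.mem_map_iff_of_surjective _ hsurj).1 hx
        obtain ⟨y, hy⟩ := (map_res_eq_zero_iff (x - a)).1 (by rw [map_sub, hae, sub_self])
        exact ⟨a, ha, y, by rw [← hy]; ring⟩
      obtain ⟨a, ha, y, rfl⟩ := key x (by rw [RingHom.mem_ker.1 hx, map_zero])
      have h0 : θ a = 0 := RingHom.mem_ker.1 ((Ideal.span_le.2 (Set.range_subset_iff.2 hf0)) ha)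
      rw [RingHom.mem_ker, map_add, h0, zero_add, map_mul, map_natCast] at hx
      obtain ⟨b, hb, z, rfl⟩ := key y ((IsLift.p_mul_eq_zero_iff hB.toIsLift _).1 hx)
      refine J.add_mem ha ?_
      rw [mul_add, ← mul_assoc, p_mul_p_poly, zero_mul, add_zero]
      exact J.mul_mem_left _ hb
    let e : (R' ⧸ J) ≃+* B := (Ideal.quotEquivOfEq hker.symm).trans (RingHom.quotientKerEquivOfSurjective hθs)
    have heq : ∀ x, e (Ideal.Quotient.mk J x) = θ x := fun x => rfl
    have hflat : ((Ideal.Quotient.mk J).comp (MvPolynomial.C : W2 p k →+* R')).Flat := by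
      rw [flat_ringHom_iff]
      intro b hb
      obtain ⟨c, hc⟩ := (flat_ringHom_iff ι).1 hB.flat (e b) (by rw [← map_natCast e, ← map_mul, hb, map_zero])
      exact ⟨e.symm c, e.injective (by rw [map_mul, map_natCast, RingEquiv.apply_symm_apply, hc])⟩
    refine ((frobLift_criterion f' hflat).1 ⟨(e.symm.toRingHom.comp Φ).comp e.toRingHom, ?_, fun b => ?_⟩).elim
      fun h hh => ⟨f', h, hf', hh⟩
    · refine RingHom.ext fun w => e.injective ?_
      simp only [RingHom.comp_apply, RingEquiv.toRingHom_eq_coe, RingEquiv.coe_toRingHom,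
        RingEquiv.apply_symm_apply]
      have he : ∀ v, e (Ideal.Quotient.mk J (C v)) = ι v := fun v => (heq (C v)).trans (eval₂Hom_C _ _ _)
      exact (congrArg Φ (he w)).trans ((RingHom.congr_fun hB.semi w).trans (he _).symm)
    · obtain ⟨x, rfl⟩ := Ideal.Quotient.mk_surjective b
      change Ideal.quotientMap (J.map mp) mp Ideal.le_comap_map (e.symm (Φ (θ x))) =
        Ideal.quotientMap (J.map mp) mp Ideal.le_comap_map (Ideal.Quotient.mk J x) ^ p
      obtain ⟨x', hx'⟩ := Ideal.Quotient.mk_surjective (e.symm (Φ (θ x)))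
      rw [← hx', Ideal.quotientMap_mk, Ideal.quotientMap_mk, ← map_pow, Ideal.Quotient.eq, hJmap,
        ← Ideal.Quotient.eq, map_pow, ← hθ, ← hθ, ← hB.red]
      rw [← heq x', hx', RingEquiv.apply_symm_apply]
  · rintro ⟨f', h, hf', hh⟩
    set J := Ideal.span (Set.range f')
    have hJmap : J.map mp = I := by
      rw [Ideal.map_span, ← Set.range_comp, show mp ∘ f' = f from funext hf']
    have hflat := flat_of_isRegular_map f' (by
      rw [show (fun i => MvPolynomial.map (res p k) (f' i)) = f from funext hf']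
      exact hreg.toIsWeaklyRegular)
    obtain ⟨Φ, hΦ1, hΦ2⟩ := (frobLift_criterion f' hflat).2 ⟨h, hh⟩
    let ψ : (MvPolynomial (Fin n) k ⧸ J.map mp) ≃+* (MvPolynomial (Fin n) k ⧸ I) := Ideal.quotEquivOfEq hJmap
    let π : (R' ⧸ J) →+* (MvPolynomial (Fin n) k ⧸ I) :=
      ψ.toRingHom.comp (Ideal.quotientMap (J.map mp) mp Ideal.le_comap_map)
    have hπ : ∀ x, π (Ideal.Quotient.mk J x) = Ideal.Quotient.mk I (mp x) := fun x => rfl
    refine ⟨R' ⧸ J, inferInstance, (Ideal.Quotient.mk J).comp MvPolynomial.C, π, Φ,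
      ⟨⟨hflat, fun q => ?_, ?_, ?_⟩, hΦ1, fun b => ?_⟩⟩
    · obtain ⟨q, rfl⟩ := Ideal.Quotient.mk_surjective q
      obtain ⟨x, rfl⟩ := hsurj q
      exact ⟨_, hπ x⟩
    · rw [map_ker_res]
      ext b
      obtain ⟨x, rfl⟩ := Ideal.Quotient.mk_surjective b
      rw [RingHom.mem_ker, hπ, Ideal.Quotient.eq_zero_iff_mem, ← hJmap, Ideal.mem_span_singleton]
      constructor
      · intro hx
        obtain ⟨a, ha, hae⟩ := (Ideal.mem_map_iff_of_surjective _ hsurj).1 hx
        obtain ⟨y, hy⟩ := (map_res_eq_zero_iff (x - a)).1 (by rw [map_sub, hae, sub_self])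
        refine ⟨Ideal.Quotient.mk J y, ?_⟩
        rw [← map_natCast (Ideal.Quotient.mk J), ← map_mul, ← hy, Ideal.Quotient.eq, sub_sub_cancel]
        exact ha
      · rintro ⟨c, hc⟩
        obtain ⟨z, rfl⟩ := Ideal.Quotient.mk_surjective c
        rw [← map_natCast (Ideal.Quotient.mk J), ← map_mul, Ideal.Quotient.eq] at hc
        have h2 := Ideal.mem_map_of_mem mp hc
        rwa [map_sub, map_mul, map_natCast, CharP.cast_eq_zero, zero_mul, sub_zero] at h2
    · refine RingHom.ext fun w => ?_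
      change π (Ideal.Quotient.mk J (C w)) = _
      rw [hπ]
      simp [mp, -res_apply]
      rfl
    · change ψ _ = (ψ _) ^ p
      rw [← map_pow, hΦ2]

end GrothLib.W2Lift
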