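import Groth.Agent.Lib.W2Lift.Basic
import Groth.Agent.Lib.EtaleLiftH2.Quotient
import Mathlib.RingTheory.Smooth.Flat
import Mathlib.RingTheory.TensorProduct.Quotient
import Mathlib.RingTheory.RingHom.Flat

/-!
# Étale algebras over Frobenius-liftable algebras are Frobenius-liftable
-/

namespace GrothLib.W2Lift

open FrobAlg TensorProduct

universe u v

variable {p : ℕ} [Fact p.Prime] {k : Type u} [Field k] [CharP k p] [PerfectRing k p]

theorem exists_semilinear_lift {B S T C : Type*} [CommRing B] [CommRing S] [CommRing T] [CommRing C]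
    [Algebra B S] [Algebra.FormallySmooth B S] (g : B →+* T) (q : T →+* C) (hq : Function.Surjective q)
    (hnil : IsNilpotent (RingHom.ker q)) (f : S →+* C) (h : ∀ b, f (algebraMap B S b) = q (g b)) :
    ∃ Ψ : S →+* T, (∀ b, Ψ (algebraMap B S b) = g b) ∧ ∀ s, q (Ψ s) = f s := by
  letI : Algebra B T := g.toAlgebra
  letI : Algebra B C := (q.comp g).toAlgebra
  let q' : T →ₐ[B] C := { q with commutes' := fun b => rfl }
  let f' : S →ₐ[B] C := { f with commutes' := h }
  let L := Algebra.FormallySmooth.liftOfSurjective f' q' hq hnil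
  exact ⟨L.toRingHom, fun b => L.commutes b,
    fun s => Algebra.FormallySmooth.liftOfSurjective_apply f' q' hq hnil s⟩

theorem fLiftable_of_etale (A C : Type v) [CommRing A] [CommRing C] [Algebra k A] [Algebra k C]
    [Algebra A C] [IsScalarTower k A C] [Algebra.Etale A C]
    (hA : FrobAlg.IsFLiftable p k A) : FrobAlg.IsFLiftable p k C := by
  rcases subsingleton_or_nontrivial C with hC | hC
  · -- the zero ring lifts to itself
    refine ⟨C, inferInstance, (algebraMap k C).comp (res p k), RingHom.id C, RingHom.id C,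
      ⟨⟨?_, Function.surjective_id, ?_, RingHom.id_comp _⟩, ?_, fun b => Subsingleton.elim _ _⟩⟩
    · exact (flat_ringHom_iff _).2 fun b _ => ⟨0, Subsingleton.elim _ _⟩
    · exact Subsingleton.elim _ _
    · exact RingHom.ext fun _ => Subsingleton.elim _ _
  obtain ⟨B, _, ι, π, Φ, hB⟩ := hA
  haveI : CharP C p := charP_of_injective_algebraMap (algebraMap k C).injective p
  haveI : CharP A p := by
    haveI : Nontrivial A := (algebraMap A C).domain_nontrivial
    exact charP_of_injective_algebraMap (algebraMap k A).injective p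
  let e : (B ⧸ RingHom.ker π) ≃+* A := RingHom.quotientKerEquivOfSurjective hB.surj
  letI : Algebra (B ⧸ RingHom.ker π) A := e.toRingHom.toAlgebra
  letI : Algebra (B ⧸ RingHom.ker π) C := ((algebraMap A C).comp e.toRingHom).toAlgebra
  haveI : IsScalarTower (B ⧸ RingHom.ker π) A C := IsScalarTower.of_algebraMap_eq fun _ => rfl
  haveI : Algebra.Etale (B ⧸ RingHom.ker π) A := Algebra.Etale.of_equiv
    (AlgEquiv.ofBijective (Algebra.ofId (B ⧸ RingHom.ker π) A) e.bijective)
  haveI : Algebra.Etale (B ⧸ RingHom.ker π) C := Algebra.Etale.comp (B ⧸ RingHom.ker π) A C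
  obtain ⟨S, _, _, _, ⟨ε⟩⟩ := GrothLib.EtaleLiftH2.exists_etale_lift B (RingHom.ker π) C
  let π' : S →+* C := (ε : (B ⧸ RingHom.ker π) ⊗[B] S →+* C).comp
    (Algebra.TensorProduct.includeRight : S →ₐ[B] (B ⧸ RingHom.ker π) ⊗[B] S).toRingHom
  have hπ'comm : ∀ b, π' (algebraMap B S b) = algebraMap A C (π b) := fun b => by
    change ε (Algebra.TensorProduct.includeRight (algebraMap B S b)) = _
    rw [AlgHom.commutes, IsScalarTower.algebraMap_apply B (B ⧸ RingHom.ker π) ((B ⧸ RingHom.ker π) ⊗[B] S),
      AlgEquiv.commutes]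
    rfl
  have hsurj : Function.Surjective π' :=
    ε.surjective.comp (Algebra.TensorProduct.includeRight_surjective S Ideal.Quotient.mk_surjective)
  have hker : RingHom.ker π' = (RingHom.ker π).map (algebraMap B S) := by
    ext x
    rw [RingHom.mem_ker, show π' x = ε (Algebra.TensorProduct.quotIdealMapEquivQuotTensor S (RingHom.ker π) x) by
      rw [Algebra.TensorProduct.quotIdealMapEquivQuotTensor_mk]; rfl,
      map_eq_zero_iff _ ε.injective, map_eq_zero_iff _ (AlgEquiv.injective _), Ideal.Quotient.eq_zero_iff_mem]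
  have hker' : RingHom.ker π' = Ideal.map ((algebraMap B S).comp ι) (RingHom.ker (res p k)) := by
    rw [hker, hB.ker_eq, Ideal.map_map]
  have hflat : ((algebraMap B S).comp ι).Flat :=
    RingHom.Flat.comp hB.flat (RingHom.flat_algebraMap_iff.2 inferInstance)
  -- the Frobenius
  have hsq : (RingHom.ker π') ^ 2 = ⊥ := by
    rw [hker', map_ker_res, Ideal.span_singleton_pow, sq, p_mul_p_of_hom ((algebraMap B S).comp ι),
      Ideal.span_singleton_eq_bot]
  obtain ⟨Ψ, hΨ1, hΨ2'⟩ := exists_semilinear_lift ((algebraMap B S).comp Φ) π' hsurj ⟨2, hsq⟩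
    ((frobenius C p).comp π') (fun b => by
      change frobenius C p (π' (algebraMap B S b)) = π' (algebraMap B S (Φ b))
      rw [hπ'comm, hπ'comm, frobenius_def, ← map_pow, hB.red])
  have hΨ2 : ∀ s, π' (Ψ s) = π' s ^ p := fun s => hΨ2' s
  refine ⟨S, inferInstance, (algebraMap B S).comp ι, π', Ψ, ⟨⟨hflat, hsurj, hker', ?_⟩, ?_, hΨ2⟩⟩
  · ext w
    simp only [RingHom.comp_apply, hπ'comm]
    rw [show π (ι w) = algebraMap k A (res p k w) from RingHom.congr_fun hB.comm w,
      ← IsScalarTower.algebraMap_apply]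
  · ext w
    simp only [RingHom.comp_apply, hΨ1]
    rw [show Φ (ι w) = ι (sigma p k w) from RingHom.congr_fun hB.semi w]

end GrothLib.W2Lift
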