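import Groth.Agent.Lib.W2Lift.Basic

/-!
# Coordinate formulas for Witt vectors of length two
-/

universe u

open MvPolynomial

namespace GrothLib.W2Lift

variable {p : ℕ} [hp : Fact p.Prime]

variable (p) in
/-- The universal carry polynomial `((X+Y)^p - X^p - Y^p)/p`. -/
noncomputable def carry : MvPolynomial (Fin 2) ℤ :=
  (exists_add_pow_prime_eq hp.out (X 0 : MvPolynomial (Fin 2) ℤ) (X 1)).choose * X 0 * X 1

theorem add_pow_carry {R : Type u} [CommRing R] (a b : R) :
    (a + b) ^ p = a ^ p + b ^ p + (p : R) * aeval ![a, b] (carry p) := by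
  have h := congrArg (aeval ![a, b])
    (exists_add_pow_prime_eq hp.out (X 0 : MvPolynomial (Fin 2) ℤ) (X 1)).choose_spec
  simp only [map_pow, map_add, map_mul, map_natCast, aeval_X, Matrix.cons_val_zero,
    Matrix.cons_val_one] at h
  rw [h, carry]
  simp only [map_mul, aeval_X, Matrix.cons_val_zero, Matrix.cons_val_one]
  ring

theorem aeval_carry_zero_right {R : Type u} [CommRing R] (a : R) :
    aeval ![a, 0] (carry p) = 0 := by
  simp [carry]

theorem aeval_carry_zero_left {R : Type u} [CommRing R] (a : R) :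
    aeval ![0, a] (carry p) = 0 := by
  simp [carry]

variable {R : Type u} [CommRing R]

theorem map_aeval_carry {S : Type*} [CommRing S] (φ : R →+* S) (a b : R) :
    φ (aeval ![a, b] (carry p)) = aeval ![φ a, φ b] (carry p) := by
  rw [map_aeval, aeval_def, coe_eval₂Hom]
  congr 1
  · exact RingHom.ext_int _ _
  · funext i; fin_cases i <;> rfl

theorem ghost_one (X : WittVector p R) :
    WittVector.ghostComponent 1 X = (p : R) * X.coeff 1 + X.coeff 0 ^ p := by
  rw [WittVector.ghostComponent_apply, wittPolynomial_one]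
  simp [MvPolynomial.C_eq_coe_nat]

theorem exists_torsionFree_lift (X : WittVector p R) :
    ∃ X' : WittVector p (MvPolynomial R ℤ), WittVector.map (aeval id).toRingHom X' = X := by
  refine ⟨WittVector.mk p fun i => MvPolynomial.X (X.coeff i), WittVector.ext fun i => ?_⟩
  rw [WittVector.map_coeff]
  exact aeval_X _ _

theorem coeff_one_add (X Y : WittVector p R) :
    (X + Y).coeff 1 = X.coeff 1 + Y.coeff 1 - aeval ![X.coeff 0, Y.coeff 0] (carry p) := by
  obtain ⟨X, rfl⟩ := exists_torsionFree_lift X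
  obtain ⟨Y, rfl⟩ := exists_torsionFree_lift Y
  simp only [← map_add, WittVector.map_coeff, ← map_aeval_carry, ← map_sub]
  congr 1
  have h := map_add (WittVector.ghostComponent 1) X Y
  rw [ghost_one, ghost_one, ghost_one, WittVector.add_coeff_zero, add_pow_carry] at h
  have hp0 : (p : MvPolynomial R ℤ) ≠ 0 := Nat.cast_ne_zero.2 hp.out.ne_zero
  exact mul_left_cancel₀ hp0 (by linear_combination h)

theorem coeff_one_mul (X Y : WittVector p R) :
    (X * Y).coeff 1 = X.coeff 0 ^ p * Y.coeff 1 + Y.coeff 0 ^ p * X.coeff 1 +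
      (p : R) * (X.coeff 1 * Y.coeff 1) := by
  obtain ⟨X, rfl⟩ := exists_torsionFree_lift X
  obtain ⟨Y, rfl⟩ := exists_torsionFree_lift Y
  simp only [← map_mul, WittVector.map_coeff, ← map_pow, ← map_natCast (aeval id : MvPolynomial R ℤ →ₐ[ℤ] R).toRingHom p,
    ← map_add]
  congr 1
  have h := map_mul (WittVector.ghostComponent 1) X Y
  rw [ghost_one, ghost_one, ghost_one, WittVector.mul_coeff_zero, mul_pow] at h
  have hp0 : (p : MvPolynomial R ℤ) ≠ 0 := Nat.cast_ne_zero.2 hp.out.ne_zero
  exact mul_left_cancel₀ hp0 (by linear_combination h)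

open FrobAlg

theorem w2_coeff_truncate (X : WittVector p R) (i : Fin 2) :
    (WittVector.truncate 2 X).coeff i = X.coeff i.val := WittVector.coeff_truncate _ _

theorem w2_ext {x y : W2 p R} (h0 : x.coeff 0 = y.coeff 0) (h1 : x.coeff 1 = y.coeff 1) : x = y :=
  TruncatedWittVector.ext fun i => by fin_cases i <;> assumption

theorem w2_add_zero (x y : W2 p R) : (x + y).coeff 0 = x.coeff 0 + y.coeff 0 := by
  simp only [← res_apply, map_add]

theorem w2_mul_zero (x y : W2 p R) : (x * y).coeff 0 = x.coeff 0 * y.coeff 0 := by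
  simp only [← res_apply, map_mul]

theorem w2_add_one (x y : W2 p R) :
    (x + y).coeff 1 = x.coeff 1 + y.coeff 1 - aeval ![x.coeff 0, y.coeff 0] (carry p) := by
  obtain ⟨X, rfl⟩ := WittVector.truncate_surjective p 2 R x
  obtain ⟨Y, rfl⟩ := WittVector.truncate_surjective p 2 R y
  simp only [← map_add, w2_coeff_truncate]
  exact coeff_one_add X Y

theorem w2_mul_one (hR : (p : R) = 0) (x y : W2 p R) :
    (x * y).coeff 1 = x.coeff 0 ^ p * y.coeff 1 + y.coeff 0 ^ p * x.coeff 1 := by
  obtain ⟨X, rfl⟩ := WittVector.truncate_surjective p 2 R x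
  obtain ⟨Y, rfl⟩ := WittVector.truncate_surjective p 2 R y
  simp only [← map_mul, w2_coeff_truncate]
  refine (coeff_one_mul X Y).trans ?_
  rw [hR, zero_mul, add_zero]
  rfl

theorem w2_one_one : ((1 : W2 p R)).coeff 1 = 0 := by
  rw [← map_one (WittVector.truncate (p := p) (R := R) 2), w2_coeff_truncate]
  exact WittVector.one_coeff_eq_of_pos _ _ _ Nat.one_pos

theorem w2_one_zero : ((1 : W2 p R)).coeff 0 = 1 := by
  rw [← res_apply, map_one]

theorem w2_p_zero (hR : (p : R) = 0) : ((p : W2 p R)).coeff 0 = 0 := by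
  rw [← res_apply, map_natCast, hR]

theorem w2_p_one (hR : (p : R) = 0) : ((p : W2 p R)).coeff 1 = 1 := by
  rcases subsingleton_or_nontrivial R with h | h
  · exact Subsingleton.elim _ _
  · have : CharP R p := (CharP.charP_iff_prime_eq_zero hp.out).mpr hR
    rw [← map_natCast (WittVector.truncate (p := p) (R := R) 2), w2_coeff_truncate, WittVector.coeff_p]
    simp

theorem w2_pow_one (hR : (p : R) = 0) (x : W2 p R) (n : ℕ) :
    (x ^ n).coeff 1 = (n : R) * x.coeff 0 ^ (p * (n - 1)) * x.coeff 1 := by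
  induction n with
  | zero => rw [pow_zero, w2_one_one]; simp
  | succ n ih =>
    rw [pow_succ, w2_mul_one hR, ih, ← res_apply p R (x ^ n), map_pow, res_apply, ← pow_mul, Nat.add_sub_cancel]
    rcases Nat.eq_zero_or_pos n with rfl | hn
    · simp
    · have : p * n = p + p * (n - 1) := by
        obtain ⟨m, rfl⟩ : ∃ m, n = m + 1 := ⟨n - 1, by omega⟩
        simp [mul_add, add_comm]
      rw [mul_comm n p, this, pow_add]
      push_cast
      ring

theorem w2_pow_p_one (hR : (p : R) = 0) (x : W2 p R) : (x ^ p).coeff 1 = 0 := by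
  rw [w2_pow_one hR, hR, zero_mul, zero_mul]

theorem w2_p_mul (hR : (p : R) = 0) (x : W2 p R) :
    ((p : W2 p R) * x).coeff 0 = 0 ∧ ((p : W2 p R) * x).coeff 1 = x.coeff 0 ^ p := by
  rw [w2_mul_zero, w2_mul_one hR, w2_p_zero hR, w2_p_one hR, zero_mul, zero_pow hp.out.ne_zero,
    zero_mul, zero_add, mul_one]
  exact ⟨rfl, rfl⟩

/-- For `k` perfect, `σ w - w^p` is `p` times an element with residue `w₁`. -/
theorem exists_sigma_sub_pow {k : Type u} [Field k] [CharP k p] [PerfectRing k p] (w : W2 p k) :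
    ∃ z : W2 p k, sigma p k w = w ^ p + (p : W2 p k) * z ∧ res p k z = w.coeff 1 := by
  have hk : (p : k) = 0 := CharP.cast_eq_zero k p
  refine ⟨WittVector.truncate 2 (WittVector.mk p fun _ => w.coeff 1), ?_, ?_⟩
  · set z : W2 p k := WittVector.truncate 2 (WittVector.mk p fun _ => w.coeff 1) with hz
    have hz0 : z.coeff 0 = w.coeff 1 := by rw [hz, w2_coeff_truncate]; rfl
    have hw0 : (w ^ p).coeff 0 = w.coeff 0 ^ p := by rw [← res_apply, map_pow, res_apply]
    refine w2_ext ?_ ?_
    · rw [w2_add_zero, (w2_p_mul hk z).1, hw0, add_zero, WittGrp.coeff_frob]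
    · rw [w2_add_one, w2_pow_p_one hk, (w2_p_mul hk z).1, (w2_p_mul hk z).2, hz0,
        aeval_carry_zero_right, zero_add, sub_zero, WittGrp.coeff_frob]
  · rw [res_truncate]; rfl

end GrothLib.W2Lift
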