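import Groth.Agent.Lib.W2Lift.Basic
import Mathlib.Algebra.MvPolynomial.PDeriv
import Mathlib.RingTheory.Polynomial.Basic
import Mathlib.RingTheory.RingHom.Flat

/-!
# Criterion for lifting Frobenius on a lifting of a quotient of a polynomial ring
-/

namespace GrothLib.W2Lift

open FrobAlg MvPolynomial

universe u

variable {p : ℕ} [Fact p.Prime] {k : Type u} [Field k] [CharP k p] [PerfectRing k p] {n : ℕ}

local notation "R'" => MvPolynomial (Fin n) (W2 p k)

theorem p_mul_p_poly : (p : R') * (p : R') = 0 := p_mul_p_of_hom MvPolynomial.C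

theorem map_res_eq_zero_iff (x : R') : MvPolynomial.map (res p k) x = 0 ↔ ∃ y, x = (p : R') * y := by
  rw [← RingHom.mem_ker, MvPolynomial.ker_map, ker_res, Ideal.map_span, Set.image_singleton, map_natCast,
    Ideal.mem_span_singleton]
  rfl

theorem map_res_polyFrob (x : R') :
    MvPolynomial.map (res p k) (polyFrob p k (Fin n) x) = MvPolynomial.map (res p k) x ^ p := by
  have : (MvPolynomial.map (res p k)).comp (polyFrob p k (Fin n)) =
      (frobenius (MvPolynomial (Fin n) k) p).comp (MvPolynomial.map (res p k)) := by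
    refine MvPolynomial.ringHom_ext (fun w => ?_) (fun i => ?_)
    · simp [polyFrob, frobenius_def, res_sigma, -res_apply]
    · simp [polyFrob, frobenius_def]
  exact RingHom.congr_fun this x

theorem p_mul_polyFrob (g : R') : (p : R') * polyFrob p k (Fin n) g = (p : R') * g ^ p := by
  obtain ⟨y, hy⟩ := (map_res_eq_zero_iff (polyFrob p k (Fin n) g - g ^ p)).1 (by
    rw [map_sub, map_res_polyFrob, map_pow, sub_self])
  rw [← sub_eq_zero, ← mul_sub, hy, ← mul_assoc, p_mul_p_poly, zero_mul]

/-- The endomorphism with `X_j ↦ X_j^p + p h_j`. -/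
noncomputable def shiftFrob (h : Fin n → R') : R' →+* R' :=
  MvPolynomial.eval₂Hom (MvPolynomial.C.comp (sigma p k)) fun i => MvPolynomial.X i ^ p + (p : R') * h i

theorem shiftFrob_eq (h : Fin n → R') (f : R') :
    shiftFrob h f = polyFrob p k (Fin n) f + (p : R') * ∑ j, pderiv j f ^ p * h j := by
  classical
  have key : shiftFrob h f = polyFrob p k (Fin n) f + (p : R') * ∑ j, polyFrob p k (Fin n) (pderiv j f) * h j := by
    induction f using MvPolynomial.induction_on with
    | C a => simp [shiftFrob, polyFrob]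
    | add f g hf hg =>
      simp only [map_add, hf, hg, add_mul, Finset.sum_add_distrib]
      ring
    | mul_X f j hf =>
      have hX : shiftFrob h (X j) = X j ^ p + (p : R') * h j := by simp [shiftFrob]
      have hFX : polyFrob p k (Fin n) (X j) = X j ^ p := by simp [polyFrob]
      have hsum : ∑ i, polyFrob p k (Fin n) (pderiv i (f * X j)) * h i =
          (∑ i, polyFrob p k (Fin n) (pderiv i f) * h i) * X j ^ p + polyFrob p k (Fin n) f * h j := by
        simp only [pderiv_mul, map_add, map_mul, hFX, add_mul, Finset.sum_add_distrib, Finset.sum_mul]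
        refine congrArg₂ _ (Finset.sum_congr rfl fun i _ => by ring) ?_
        rw [Finset.sum_eq_single j (fun i _ hi => by rw [pderiv_X_of_ne hi.symm]; simp) (by simp),
          pderiv_X_self, map_one, mul_one]
      rw [map_mul, map_mul, hf, hX, hFX, hsum]
      linear_combination (∑ i, polyFrob p k (Fin n) (pderiv i f) * h i) * h j * p_mul_p_poly (p := p) (k := k) (n := n)
  rw [key, Finset.mul_sum, Finset.mul_sum]
  refine congrArg _ (Finset.sum_congr rfl fun j _ => ?_)
  rw [← mul_assoc, ← mul_assoc, p_mul_polyFrob]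

theorem map_res_shiftFrob (h : Fin n → R') (x : R') :
    MvPolynomial.map (res p k) (shiftFrob h x) = MvPolynomial.map (res p k) x ^ p := by
  rw [shiftFrob_eq, map_add, map_res_polyFrob, map_mul, map_natCast, CharP.cast_eq_zero, zero_mul, add_zero]

theorem frobLift_criterion {m : ℕ} (f' : Fin m → R')
    (hflat : ((Ideal.Quotient.mk (Ideal.span (Set.range f'))).comp
      (MvPolynomial.C : W2 p k →+* R')).Flat) :
    (∃ Φ : (R' ⧸ Ideal.span (Set.range f')) →+* (R' ⧸ Ideal.span (Set.range f')),
      Φ.comp ((Ideal.Quotient.mk (Ideal.span (Set.range f'))).comp MvPolynomial.C) =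
        ((Ideal.Quotient.mk (Ideal.span (Set.range f'))).comp MvPolynomial.C).comp (FrobAlg.sigma p k) ∧
      ∀ b, Ideal.quotientMap ((Ideal.span (Set.range f')).map (MvPolynomial.map (FrobAlg.res p k)))
          (MvPolynomial.map (FrobAlg.res p k)) Ideal.le_comap_map (Φ b) =
        (Ideal.quotientMap ((Ideal.span (Set.range f')).map (MvPolynomial.map (FrobAlg.res p k)))
          (MvPolynomial.map (FrobAlg.res p k)) Ideal.le_comap_map b) ^ p) ↔
    ∃ h : Fin n → R', ∀ i,
      FrobAlg.polyFrob p k (Fin n) (f' i) - f' i ^ p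
        - (p : R') * ∑ j, MvPolynomial.pderiv j (f' i) ^ p * h j
        ∈ Ideal.span {(p : R')} * Ideal.span (Set.range f') := by
  classical
  set J := Ideal.span (Set.range f') with hJ
  have hrel : ∀ (h : Fin n → R') i, shiftFrob (fun j => - h j) (f' i) - f' i ^ p =
      FrobAlg.polyFrob p k (Fin n) (f' i) - f' i ^ p
        - (p : R') * ∑ j, MvPolynomial.pderiv j (f' i) ^ p * h j := fun h i => by
    simp only [shiftFrob_eq, mul_neg, Finset.sum_neg_distrib]
    ring
  constructor
  · rintro ⟨Φ, hΦ1, hΦ2⟩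
    -- the values on the variables
    have hg : ∀ j, ∃ h : R', Φ (Ideal.Quotient.mk J (X j)) = Ideal.Quotient.mk J (X j ^ p + (p : R') * h) := by
      intro j
      obtain ⟨g, hg⟩ := Ideal.Quotient.mk_surjective (Φ (Ideal.Quotient.mk J (X j)))
      have h2 := hΦ2 (Ideal.Quotient.mk J (X j))
      rw [← hg, Ideal.quotientMap_mk, Ideal.quotientMap_mk, ← map_pow, ← map_pow (MvPolynomial.map (res p k)),
        Ideal.Quotient.eq, ← map_sub] at h2
      obtain ⟨a, ha, hae⟩ := (Ideal.mem_map_iff_of_surjective _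
        (MvPolynomial.map_surjective _ res_surjective)).1 h2
      obtain ⟨y, hy⟩ := (map_res_eq_zero_iff (g - X j ^ p - a)).1 (by rw [map_sub, hae, sub_self])
      refine ⟨y, ?_⟩
      rw [← hg, Ideal.Quotient.eq, show g - (X j ^ p + (p : R') * y) = a by rw [← hy]; ring]
      exact ha
    choose h hh using hg
    have hG : Φ.comp (Ideal.Quotient.mk J) = (Ideal.Quotient.mk J).comp (shiftFrob h) := by
      refine MvPolynomial.ringHom_ext (fun w => ?_) (fun j => ?_)
      · have := RingHom.congr_fun hΦ1 w
        simp only [RingHom.comp_apply] at this ⊢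
        rw [this]
        simp [shiftFrob]
      · simp [shiftFrob, hh]
    refine ⟨fun j => - h j, fun i => ?_⟩
    rw [← hrel, show (fun j => - - h j) = h from funext fun j => neg_neg _]
    have hfi : f' i ∈ J := Ideal.subset_span ⟨i, rfl⟩
    have hmem : shiftFrob h (f' i) - f' i ^ p ∈ J := by
      refine sub_mem ?_ (Ideal.pow_mem_of_mem _ hfi _ (Fact.out : p.Prime).pos)
      rw [← Ideal.Quotient.eq_zero_iff_mem, ← RingHom.comp_apply, ← hG, RingHom.comp_apply,
        Ideal.Quotient.eq_zero_iff_mem.2 hfi, map_zero]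
    obtain ⟨y, hy⟩ := (map_res_eq_zero_iff (shiftFrob h (f' i) - f' i ^ p)).1 (by
      rw [map_sub, map_res_shiftFrob, map_pow, sub_self])
    rw [hy] at hmem ⊢
    obtain ⟨b, hb⟩ := (flat_ringHom_iff _).1 hflat (Ideal.Quotient.mk J y) (by
      rw [← map_natCast (Ideal.Quotient.mk J), ← map_mul, Ideal.Quotient.eq_zero_iff_mem]
      exact hmem)
    obtain ⟨z, rfl⟩ := Ideal.Quotient.mk_surjective b
    rw [← map_natCast (Ideal.Quotient.mk J), ← map_mul, Ideal.Quotient.eq] at hb
    have : (p : R') * y = (p : R') * (y - (p : R') * z) := by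
      rw [mul_sub, ← mul_assoc, p_mul_p_poly, zero_mul, sub_zero]
    rw [this]
    exact Ideal.mul_mem_mul (Ideal.mem_span_singleton_self _) hb
  · rintro ⟨h, hh⟩
    have hle : J ≤ J.comap (shiftFrob fun j => - h j) := by
      rw [hJ, Ideal.span_le]
      rintro _ ⟨i, rfl⟩
      have h1 := Ideal.mul_le_right (hh i)
      rw [← hrel] at h1
      have hfi : f' i ∈ J := Ideal.subset_span ⟨i, rfl⟩
      have := add_mem h1 (Ideal.pow_mem_of_mem _ hfi _ (Fact.out : p.Prime).pos)
      simpa using this
    refine ⟨Ideal.quotientMap J (shiftFrob fun j => - h j) hle, ?_, fun b => ?_⟩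
    · refine RingHom.ext fun w => ?_
      simp [shiftFrob]
    · obtain ⟨x, rfl⟩ := Ideal.Quotient.mk_surjective b
      rw [Ideal.quotientMap_mk, Ideal.quotientMap_mk, Ideal.quotientMap_mk, map_res_shiftFrob, map_pow]

end GrothLib.W2Lift
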