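import Mathlib

/-!
# The test functional detecting `((∑ zᵢ)^p - ∑ zᵢ^p)/p` modulo `(∑ xᵢyᵢ, xᵢ^p, yᵢ^p)`
-/

namespace GrothLib.W2Lift.Quadric

section aux

open MvPolynomial

variable {n : ℕ}

theorem exists_C {ι : Type*} (R : Type*) [CommRing R] {p : ℕ} (hp : p.Prime) (s : Finset ι)
    (z : ι → R) : ∃ c : R, (∑ i ∈ s, z i) ^ p = ∑ i ∈ s, z i ^ p + (p : R) * c := by
  classical
  induction s using Finset.induction_on with
  | empty => exact ⟨0, by simp [zero_pow hp.ne_zero]⟩
  | insert a s ha ih =>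
    obtain ⟨c, hc⟩ := ih
    obtain ⟨r, hr⟩ := exists_add_pow_prime_eq hp (z a) (∑ i ∈ s, z i)
    refine ⟨c + z a * (∑ i ∈ s, z i) * r, ?_⟩
    rw [Finset.sum_insert ha, Finset.sum_insert ha, hr, hc]
    ring

/-- The test values: `s₀, s₁, -(s₀+s₁), 0, 0, …`. -/
noncomputable def tv (R : Type*) [CommRing R] (n : ℕ) (i : Fin n) : MvPolynomial (Fin 2) R :=
  if i.val = 0 then X 0 else if i.val = 1 then X 1 else if i.val = 2 then -(X 0 + X 1) else 0

theorem sum_three {M : Type*} [AddCommMonoid M] (hn : 3 ≤ n) (f : Fin n → M)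
    (hf : ∀ i : Fin n, 3 ≤ i.val → f i = 0) :
    ∑ i, f i = f ⟨0, by omega⟩ + f ⟨1, by omega⟩ + f ⟨2, by omega⟩ := by
  obtain ⟨m, rfl⟩ : ∃ m, n = m + 1 + 1 + 1 := ⟨n - 3, by omega⟩
  rw [Fin.sum_univ_succ, Fin.sum_univ_succ, Fin.sum_univ_succ, Finset.sum_eq_zero fun i _ => hf _ ?_,
    add_zero, ← add_assoc]
  · rfl
  · simp [Fin.val_succ]

theorem sum_tv (R : Type*) [CommRing R] (hn : 3 ≤ n) : ∑ i, tv R n i = 0 := by
  rw [sum_three hn _ fun i hi => by
    rw [tv, if_neg (by omega), if_neg (by omega), if_neg (by omega)]]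
  simp [tv]

theorem sum_tv_pow (R : Type*) [CommRing R] (hn : 3 ≤ n) {p : ℕ} (hp : p ≠ 0) :
    ∑ i, tv R n i ^ p = X 0 ^ p + X 1 ^ p + (-1) ^ p * (X 0 + X 1) ^ p := by
  rw [sum_three hn _ fun i hi => by
    rw [tv, if_neg (by omega), if_neg (by omega), if_neg (by omega), zero_pow hp]]
  simp [tv]
  rw [← neg_pow]
  ring

/-- The exponent `(1, p-1)`. -/
noncomputable def d1 (p : ℕ) : Fin 2 →₀ ℕ := Finsupp.equivFunOnFinite.symm ![1, p - 1]

theorem coeff_X_pow_mul_eq_zero {R : Type*} [CommRing R] {p : ℕ} (hp : 2 ≤ p) (j : Fin 2)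
    (h : MvPolynomial (Fin 2) R) : coeff (d1 p) (X j ^ p * h) = 0 := by
  classical
  rw [X_pow_eq_monomial, coeff_monomial_mul', if_neg]
  intro hle
  have := hle j
  fin_cases j <;> simp [d1] at this <;> omega

theorem tv_pow_mem {R : Type*} [CommRing R] (p : ℕ) [Fact p.Prime] [CharP R p] (i : Fin n) :
    ∃ a b : MvPolynomial (Fin 2) R, tv R n i ^ p = X 0 ^ p * a + X 1 ^ p * b := by
  have hp := (Fact.out : p.Prime)
  unfold tv
  split_ifs
  · exact ⟨1, 0, by ring⟩
  · exact ⟨0, 1, by ring⟩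
  · refine ⟨(-1) ^ p, (-1) ^ p, ?_⟩
    rw [neg_pow, add_pow_char]
    ring
  · exact ⟨0, 0, by rw [zero_pow hp.ne_zero]; ring⟩

theorem coeff_tv_eq_zero {R : Type*} [CommRing R] (p : ℕ) [Fact p.Prime] [CharP R p] (i : Fin n)
    (h : MvPolynomial (Fin 2) R) : coeff (d1 p) (tv R n i ^ p * h) = 0 := by
  have hp := (Fact.out : p.Prime).two_le
  obtain ⟨a, b, hab⟩ := tv_pow_mem (R := R) p i
  rw [hab, add_mul, mul_assoc, mul_assoc, coeff_add, coeff_X_pow_mul_eq_zero hp,
    coeff_X_pow_mul_eq_zero hp, add_zero]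

theorem hom_aeval {S T : Type*} [CommRing S] [CommRing T] [Algebra ℤ S] [Algebra ℤ T] (φ : S →+* T) (f : Fin n → S)
    (c : MvPolynomial (Fin n) ℤ) : φ (aeval f c) = aeval (fun i => φ (f i)) c := by
  rw [map_aeval, aeval_def, coe_eval₂Hom]
  congr 1
  exact RingHom.ext_int _ _

variable (k : Type*) [Field k] (p n : ℕ)

/-- The test functional. -/
noncomputable def testFun : MvPolynomial (Fin n × Fin 2) k →ₗ[k] k :=
  open Classical in
  (MvPolynomial.basisMonomials (Fin n × Fin 2) k).constr k fun d =>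
    if ∀ i, d (i, 0) = d (i, 1) then coeff (d1 p) (∏ i, tv k n i ^ d (i, 0)) else 0

open Classical in
theorem testFun_monomial (d : Fin n × Fin 2 →₀ ℕ) :
    testFun k p n (monomial d 1) =
      if ∀ i, d (i, 0) = d (i, 1) then coeff (d1 p) (∏ i, tv k n i ^ d (i, 0)) else 0 := by
  have h : monomial d (1 : k) = MvPolynomial.basisMonomials (Fin n × Fin 2) k d := rfl
  rw [h, testFun, Module.Basis.constr_basis]

theorem testFun_ideal {p : ℕ} [Fact p.Prime] [CharP k p] {n : ℕ} (hn : 3 ≤ n)
    (x : MvPolynomial (Fin n × Fin 2) k)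
    (hx : x ∈ Ideal.span
        (insert (∑ i : Fin n, MvPolynomial.X (i, (0 : Fin 2)) * MvPolynomial.X (i, (1 : Fin 2)))
          (Set.range fun v : Fin n × Fin 2 => (MvPolynomial.X v : MvPolynomial (Fin n × Fin 2) k) ^ p))) :
    testFun k p n x = 0 := by
  classical
  suffices ∀ g, testFun k p n (g * x) = 0 by simpa using this 1
  induction hx using Submodule.span_induction with
  | zero => simp
  | add a b _ _ ha hb => intro g; rw [mul_add, map_add, ha, hb, add_zero]
  | smul a b _ hb => intro g; rw [smul_eq_mul, ← mul_assoc, hb]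
  | mem y hy =>
    intro g
    induction g using MvPolynomial.induction_on' with
    | add a b ha hb => rw [add_mul, map_add, ha, hb, add_zero]
    | monomial d c =>
      rw [show monomial d c = c • monomial d (1 : k) by simp [smul_monomial], smul_mul_assoc, map_smul]
      suffices testFun k p n (monomial d 1 * y) = 0 by rw [this, smul_zero]
      rcases hy with rfl | ⟨⟨j, b⟩, rfl⟩
      · rw [Finset.mul_sum, map_sum]
        simp only [X, monomial_mul, mul_one, testFun_monomial]
        by_cases hbal : ∀ i, d (i, 0) = d (i, 1)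
        · have hterm : ∀ j : Fin n, (∏ i, tv k n i ^ (d + ((Finsupp.single (j, (0 : Fin 2)) 1 : Fin n × Fin 2 →₀ ℕ) +
              (Finsupp.single (j, (1 : Fin 2)) 1 : Fin n × Fin 2 →₀ ℕ))) (i, 0)) = tv k n j * ∏ i, tv k n i ^ d (i, 0) := by
            intro j
            simp only [Finsupp.add_apply, pow_add, Finset.prod_mul_distrib]
            have h0 : (∏ x, tv k n x ^ (Finsupp.single (j, (0 : Fin 2)) 1 : Fin n × Fin 2 →₀ ℕ) (x, 0)) = tv k n j := by
              rw [Finset.prod_eq_single j (fun i _ hi => by simp [Ne.symm hi]) (by simp)]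
              simp
            have h1 : (∏ x, tv k n x ^ (Finsupp.single (j, (1 : Fin 2)) 1 : Fin n × Fin 2 →₀ ℕ) (x, 0)) = 1 :=
              Finset.prod_eq_one fun x _ => by simp
            rw [h0, h1, mul_one, mul_comm]
          have hb : ∀ j : Fin n, ∀ i, (d + ((Finsupp.single (j, (0 : Fin 2)) 1 : Fin n × Fin 2 →₀ ℕ) +
              (Finsupp.single (j, (1 : Fin 2)) 1 : Fin n × Fin 2 →₀ ℕ))) (i, 0) = (d + ((Finsupp.single (j, (0 : Fin 2)) 1 : Fin n × Fin 2 →₀ ℕ) +
              (Finsupp.single (j, (1 : Fin 2)) 1 : Fin n × Fin 2 →₀ ℕ))) (i, 1) := by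
            intro j i
            by_cases hij : i = j
            · subst hij; simp [hbal]
            · simp [Finsupp.single_apply, Ne.symm hij, hbal]
          rw [Finset.sum_congr rfl fun j _ => by rw [if_pos (hb j), hterm j], ← coeff_sum,
            ← Finset.sum_mul, sum_tv k hn, zero_mul, coeff_zero]
        · refine Finset.sum_eq_zero fun j _ => if_neg fun h => hbal fun i => ?_
          have := h i
          by_cases hij : i = j
          · subst hij; simpa using this
          · simpa [Finsupp.single_apply, Ne.symm hij] using this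
      · simp only [X_pow_eq_monomial, monomial_mul, mul_one, testFun_monomial]
        split_ifs with hbal
        · have hj := hbal j
          have hge : p ≤ (d + Finsupp.single (j, b) p) (j, 0) := by
            fin_cases b
            · simp
            · simp at hj ⊢; omega
          rw [← Finset.mul_prod_erase _ _ (Finset.mem_univ j)]
          obtain ⟨e, he⟩ := Nat.exists_eq_add_of_le hge
          rw [he, pow_add, mul_assoc, coeff_tv_eq_zero]
        · rfl

theorem testFun_aeval {n : ℕ} (p : ℕ) (h : MvPolynomial (Fin n) ℤ) :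
    testFun k p n (aeval (fun i => X (i, (0 : Fin 2)) * X (i, (1 : Fin 2))) h) =
      coeff (d1 p) (aeval (tv k n) h) := by
  classical
  induction h using MvPolynomial.induction_on' with
  | add a b ha hb => rw [map_add, map_add, map_add, coeff_add, ha, hb]
  | monomial d c =>
    rw [aeval_monomial, aeval_monomial]
    simp only [eq_intCast]
    rw [← zsmul_eq_mul, ← zsmul_eq_mul, map_zsmul, coeff_smul]
    congr 1
    rw [Finsupp.prod_fintype _ _ (fun _ => pow_zero _), Finsupp.prod_fintype _ _ (fun _ => pow_zero _)]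
    have hmon : (∏ i, (X (i, (0 : Fin 2)) * X (i, (1 : Fin 2)) : MvPolynomial (Fin n × Fin 2) k) ^ d i) =
        monomial (∑ i, (Finsupp.single (i, (0 : Fin 2)) (d i) + Finsupp.single (i, (1 : Fin 2)) (d i))) 1 := by
      simp only [mul_pow, X_pow_eq_monomial, monomial_mul, mul_one]
      rw [monomial_sum_one]
    have hval : ∀ i (b : Fin 2),
        (∑ j, (Finsupp.single (j, (0 : Fin 2)) (d j) + Finsupp.single (j, (1 : Fin 2)) (d j))) (i, b) = d i := by
      intro i b
      rw [Finsupp.finsetSum_apply, Finset.sum_eq_single i (fun j _ hji => by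
        simp [Finsupp.single_apply, hji]) (by simp)]
      fin_cases b <;> simp
    rw [hmon, testFun_monomial, if_pos fun i => by rw [hval, hval]]
    simp only [hval]


theorem testFun_C (a : k) {p n : ℕ} (hp : 2 ≤ p) : testFun k p n (MvPolynomial.C a) = 0 := by
  classical
  rw [MvPolynomial.C_apply, show MvPolynomial.monomial (0 : Fin n × Fin 2 →₀ ℕ) a =
    a • MvPolynomial.monomial 0 (1 : k) by rw [MvPolynomial.smul_monomial, smul_eq_mul, mul_one],
    map_smul, testFun_monomial, if_pos (fun i => by simp)]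
  simp only [Finsupp.coe_zero, Pi.zero_apply, pow_zero, Finset.prod_const_one, MvPolynomial.coeff_one]
  rw [if_neg, smul_zero]
  intro h
  have := DFunLike.congr_fun h 0
  simp [d1] at this

theorem coeff_aeval_ne_zero {n p : ℕ} (hn : 3 ≤ n) (hp : p.Prime) (C : MvPolynomial (Fin n) ℤ)
    (hC : (∑ i, MvPolynomial.X i) ^ p = ∑ i, MvPolynomial.X i ^ p + (p : MvPolynomial (Fin n) ℤ) * C) :
    testFun k p n (MvPolynomial.aeval (fun i => MvPolynomial.X (i, (0 : Fin 2)) * MvPolynomial.X (i, (1 : Fin 2))) C) ≠ 0 := by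
  rw [testFun_aeval]
  intro h5
  have h6 := congrArg (MvPolynomial.aeval (tv ℤ n)) hC
  simp only [map_pow, map_sum, map_add, map_mul, map_natCast, MvPolynomial.aeval_X] at h6
  rw [sum_tv ℤ hn, sum_tv_pow ℤ hn hp.ne_zero, zero_pow hp.ne_zero] at h6
  have h7 : MvPolynomial.coeff (d1 p) (MvPolynomial.aeval (tv ℤ n) C) = -(-1) ^ p := by
    have h8 := congrArg (MvPolynomial.coeff (d1 p)) h6
    have e0 : (MvPolynomial.X 0 : MvPolynomial (Fin 2) ℤ) ^ p = MvPolynomial.X 0 ^ p * 1 := (mul_one _).symm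
    have e1 : (MvPolynomial.X 1 : MvPolynomial (Fin 2) ℤ) ^ p = MvPolynomial.X 1 ^ p * 1 := (mul_one _).symm
    rw [MvPolynomial.coeff_zero, MvPolynomial.coeff_add, MvPolynomial.coeff_add, MvPolynomial.coeff_add,
      e0, e1, coeff_X_pow_mul_eq_zero hp.two_le, coeff_X_pow_mul_eq_zero hp.two_le, zero_add, zero_add,
      show ((-1 : MvPolynomial (Fin 2) ℤ)) ^ p = MvPolynomial.C ((-1) ^ p) by simp,
      MvPolynomial.coeff_C_mul, MvPolynomial.coeff_add_pow, if_pos (by simp [d1]; have := hp.two_le; omega),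
      show (p : MvPolynomial (Fin 2) ℤ) = MvPolynomial.C (p : ℤ) by simp, MvPolynomial.coeff_C_mul] at h8
    have hd : (d1 p) 0 = 1 := by simp [d1]
    rw [hd, Nat.choose_one_right] at h8
    have hp0 : (p : ℤ) ≠ 0 := by exact_mod_cast hp.ne_zero
    apply mul_left_cancel₀ hp0
    linear_combination -h8
  have h9 : MvPolynomial.aeval (tv k n) C =
      MvPolynomial.map (Int.castRingHom k) (MvPolynomial.aeval (tv ℤ n) C) := by
    rw [hom_aeval]
    congr 1
    congr 1
    funext i
    simp only [tv]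
    split_ifs <;> simp
  rw [h9, MvPolynomial.coeff_map, h7] at h5
  simp at h5

end aux

end GrothLib.W2Lift.Quadric
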