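import Groth.Agent.Lib.W2Lift.EtaleFrob
import Groth.Agent.Lib.Hensel.SmoothAlgLift

/-!
# Smooth affine algebras are Frobenius-liftable
-/

namespace GrothLib.W2Lift

open FrobAlg

universe u

variable {p : ℕ} [Fact p.Prime] {k : Type u} [Field k] [CharP k p] [PerfectRing k p]

theorem fLiftable_of_smooth (A : Type u) [CommRing A] [Algebra k A] [Algebra.Smooth k A] :
    FrobAlg.IsFLiftable p k A := by
  rcases subsingleton_or_nontrivial A with hA | hA
  · refine ⟨A, inferInstance, (algebraMap k A).comp (res p k), RingHom.id A, RingHom.id A,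
      ⟨⟨?_, Function.surjective_id, ?_, RingHom.id_comp _⟩, ?_, fun b => Subsingleton.elim _ _⟩⟩
    · exact (flat_ringHom_iff _).2 fun b _ => ⟨0, Subsingleton.elim _ _⟩
    · exact Subsingleton.elim _ _
    · exact RingHom.ext fun _ => Subsingleton.elim _ _
  haveI : CharP A p := charP_of_injective_algebraMap (algebraMap k A).injective p
  let e : (W2 p k ⧸ RingHom.ker (res p k)) ≃+* k :=
    RingHom.quotientKerEquivOfSurjective (res_surjective (p := p) (k := k))
  letI : Algebra (W2 p k ⧸ RingHom.ker (res p k)) k := e.toRingHom.toAlgebra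
  letI : Algebra (W2 p k ⧸ RingHom.ker (res p k)) A := ((algebraMap k A).comp e.toRingHom).toAlgebra
  haveI : IsScalarTower (W2 p k ⧸ RingHom.ker (res p k)) k A := IsScalarTower.of_algebraMap_eq fun _ => rfl
  haveI : Algebra.Etale (W2 p k ⧸ RingHom.ker (res p k)) k := Algebra.Etale.of_equiv
    (AlgEquiv.ofBijective (Algebra.ofId (W2 p k ⧸ RingHom.ker (res p k)) k) e.bijective)
  haveI : Algebra.Smooth (W2 p k ⧸ RingHom.ker (res p k)) A :=
    Algebra.Smooth.comp (W2 p k ⧸ RingHom.ker (res p k)) k A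
  letI : Algebra (W2 p k) A :=
    ((algebraMap (W2 p k ⧸ RingHom.ker (res p k)) A).comp (Ideal.Quotient.mk _)).toAlgebra
  haveI : IsScalarTower (W2 p k) (W2 p k ⧸ RingHom.ker (res p k)) A :=
    IsScalarTower.of_algebraMap_eq fun _ => rfl
  obtain ⟨Z, _, _, φ, _, hφ, hker⟩ := GrothLib.Hensel.exists_smooth_lift (RingHom.ker (res p k)) A
  have hcomm : ∀ w, φ (algebraMap (W2 p k) Z w) = algebraMap k A (res p k w) := fun w => by
    rw [AlgHom.commutes]; rfl
  have hsq : (RingHom.ker φ.toRingHom) ^ 2 = ⊥ := by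
    rw [show RingHom.ker φ.toRingHom = (RingHom.ker (res p k)).map (algebraMap (W2 p k) Z) from hker,
      map_ker_res, Ideal.span_singleton_pow, sq, p_mul_p_of_hom (algebraMap (W2 p k) Z), Ideal.span_singleton_eq_bot]
  obtain ⟨Ψ, hΨ1, hΨ2⟩ := exists_semilinear_lift ((algebraMap (W2 p k) Z).comp (sigma p k)) φ.toRingHom hφ
    ⟨2, hsq⟩ ((frobenius A p).comp φ.toRingHom) (fun w => by
      change frobenius A p (φ (algebraMap (W2 p k) Z w)) = φ (algebraMap (W2 p k) Z (sigma p k w))
      rw [hcomm, hcomm, frobenius_def, ← map_pow, res_sigma])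
  exact ⟨Z, inferInstance, algebraMap (W2 p k) Z, φ.toRingHom, Ψ,
    ⟨⟨RingHom.flat_algebraMap_iff.2 inferInstance, hφ, hker, RingHom.ext hcomm⟩, RingHom.ext hΨ1, hΨ2⟩⟩

end GrothLib.W2Lift
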